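import Cfsg.Agent.Lib.FusionAbelianIndex.Main
import Cfsg.Agent.Lib.PGroup.Basic
import Cfsg.Agent.Lib.PGroup.Power

/-
Small essential subgroups: automorphisms of `p`-power order stabilizing short invariant series are
inner, so an essential subgroup has no short invariant series with factors of order `p`.
Main results (namespace `Cfsg.Agent.EssentialSmall`): `Setting`, `setting_of_essential`,
`mul_apply_mem_of_card_le` (a `p`-element acts trivially on a factor of order `p`),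
`Setting.false_of_series`, `Setting.exists_orderOf` (abelian case).
-/

set_option autoImplicit false

namespace Cfsg.Agent.EssentialSmall

open Cfsg Cfsg.FusionSystem Cfsg.Agent.Fusion

variable {H : Type*} [Group H] {p : ℕ}

/-- What is used of an essential subgroup: a `p`-group with a group of automorphisms whose largest
normal `p`-subgroup is inner, and a `p`-element of it that is not inner. -/
structure Setting (p : ℕ) (A : Subgroup (MulAut H)) : Prop where
  pgroup : IsPGroup p H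
  core : (pCore p A).map A.subtype ≤ (MulAut.conj : H →* MulAut H).range
  outer : ∃ a ∈ A, a ∉ (MulAut.conj : H →* MulAut H).range ∧ ∃ k, a ^ p ^ k = 1

theorem setting_of_essential {Ω : Type*} [Group Ω] {S : Subgroup Ω} [Finite S] [Fact p.Prime]
    (hS : IsPGroup p S) {F : FusionSystem S} (hF : F.IsSaturated p) {P : Subgroup Ω}
    (hP : F.IsEssential p P) : Setting p (F.autGroup P) := by
  have r := FusionAbelianIndex.Rad.of_essential hS hF hP
  refine ⟨hS.to_le r.lt.le, (FusionChain.isRadical_iff.1 r.radical).2.le, ?_⟩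
  obtain ⟨g, hg, hgP⟩ := SetLike.exists_of_lt (lt_normalizerIn hS le_rfl r.lt)
  have hmem : normConj S P ⟨g, hg⟩ ∈ autInducedBy S P := (range_normConj S P).le ⟨_, rfl⟩
  refine ⟨_, autInducedBy_le_autGroup F le_rfl r.lt.le hmem, fun hi =>
    hgP (FusionChain.mem_of_conj_mem_inn r.cle hg.1 r.lt.le hi fun _ => rfl), ?_⟩
  obtain ⟨k, hk⟩ := hS ⟨g, hg.1⟩
  refine ⟨k, ?_⟩
  rw [← map_pow]
  convert map_one (normConj S P) using 2
  exact Subtype.ext (congrArg Subtype.val hk :)

/-- An automorphism of `p`-power order acts trivially on an invariant factor of order at most `p`. -/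
theorem mul_apply_mem_of_card_le [Finite H] [hp : Fact p.Prime] (hH : IsPGroup p H)
    {U W : Subgroup H} [U.Normal] (hUW : U ≤ W) (hc : Nat.card W ≤ p * Nat.card U) {a : MulAut H}
    {k : ℕ} (hk : a ^ p ^ k = 1) (hU : ∀ x ∈ U, a x ∈ U) (hW : ∀ x ∈ W, a x ∈ W) {x : H}
    (hx : x ∈ W) : x⁻¹ * a x ∈ U := by
  haveI : Finite (H ⧸ U) := Finite.of_surjective _ (QuotientGroup.mk'_surjective U)
  let π := QuotientGroup.mk' U
  let Q := W.map π
  have hQc : Nat.card Q ≤ p := by
    have h := FusionAbelianIndex.card_comap π Q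
    rw [QuotientGroup.ker_mk', inf_eq_left.2 (Subgroup.map_le_range _ _),
      Subgroup.comap_map_eq_self (by rw [QuotientGroup.ker_mk']; exact hUW)] at h
    rw [h, mul_comm p] at hc
    exact Nat.le_of_mul_le_mul_left hc Nat.card_pos
  by_cases hxU : x ∈ U
  · exact mul_mem (inv_mem hxU) (hU x hxU)
  have hne : π x ≠ 1 := fun h => hxU ((QuotientGroup.eq_one_iff x).1 h)
  have hord : orderOf (π x) = p := by
    have h1 : orderOf (π x) ≤ p := by
      refine le_trans ?_ hQc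
      rw [← Nat.card_zpowers]
      exact Subgroup.card_le_of_le (Subgroup.zpowers_le.2 ⟨x, hx, rfl⟩)
    obtain ⟨j, hj⟩ := (hH.to_quotient U) (π x)
    obtain ⟨i, -, hi⟩ := (Nat.dvd_prime_pow hp.out).1 (orderOf_dvd_of_pow_eq_one hj)
    rcases i with _ | _ | i
    · exact absurd (orderOf_eq_one_iff.1 (by simpa using hi)) hne
    · simpa using hi
    · rw [hi] at h1
      exact absurd h1 (not_le.2 (by simpa using Nat.pow_lt_pow_right hp.out.one_lt (show 1 < i + 2 by omega)))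
  have hQ : Q = Subgroup.zpowers (π x) := by
    refine (Subgroup.eq_of_le_of_card_ge (Subgroup.zpowers_le.2 (show π x ∈ Q from ⟨x, hx, rfl⟩)) ?_).symm
    rw [Nat.card_zpowers, hord]
    exact hQc
  have hstep : ∀ (y : H) (n : ℕ), y ∈ W → π y = π x ^ n →
      ∀ r : ℕ, π (a x) = π x ^ r → π (a y) = π x ^ (r * n) := by
    intro y n _ hy r hr
    have h1 : (x ^ n)⁻¹ * y ∈ U := by
      rw [← QuotientGroup.eq_one_iff]
      show π ((x ^ n)⁻¹ * y) = 1
      rw [map_mul, map_inv, map_pow, hy, inv_mul_cancel]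
    have h2 : π (a ((x ^ n)⁻¹ * y)) = 1 := (QuotientGroup.eq_one_iff _).2 (hU _ h1)
    rw [map_mul, map_inv, map_pow, map_mul, map_inv, map_pow, inv_mul_eq_one, hr, ← pow_mul] at h2
    exact h2.symm
  obtain ⟨r, hr⟩ : ∃ r : ℕ, π (a x) = π x ^ r := by
    have h : π (a x) ∈ Subgroup.zpowers (π x) := hQ ▸ ⟨_, hW x hx, rfl⟩
    obtain ⟨r, hr⟩ := (mem_powers_iff_mem_zpowers).2 h
    exact ⟨r, hr.symm⟩
  have hiter : ∀ n : ℕ, π ((a ^ n) x) = π x ^ (r ^ n) ∧ (a ^ n) x ∈ W := by
    intro n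
    induction n with
    | zero => simp [hx]
    | succ n ih =>
      refine ⟨?_, ?_⟩
      · rw [pow_succ' a, MulAut.mul_apply, hstep _ _ ih.2 ih.1 r hr, pow_succ']
      · rw [pow_succ' a, MulAut.mul_apply]; exact hW _ ih.2
  have h1 := (hiter (p ^ k)).1
  rw [hk, MulAut.one_apply] at h1
  have hmod : 1 ≡ r ^ p ^ k [MOD p] := by
    have h2 := pow_eq_pow_iff_modEq.1 ((pow_one _).trans h1)
    rwa [hord] at h2
  have hr1 : 1 ≡ r [MOD p] := by
    rw [← ZMod.natCast_eq_natCast_iff] at hmod ⊢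
    rw [hmod, Nat.cast_pow, ZMod.pow_card_pow]
  have h2 : π (a x) = π x := by
    rw [hr]
    conv_rhs => rw [← pow_one (π x)]
    exact pow_eq_pow_iff_modEq.2 (hord ▸ hr1.symm)
  rw [← QuotientGroup.eq_one_iff]
  show π (x⁻¹ * a x) = 1
  rw [map_mul, map_inv, h2, inv_mul_cancel]

variable {A : Subgroup (MulAut H)}

theorem Setting.mem_inn_of_chain [Finite H] [Fact p.Prime] (s : Setting p A) (n : ℕ) (U : ℕ → Subgroup H)
    (h0 : U 0 = ⊥) (hn : U n = ⊤) (hmono : ∀ i < n, U i ≤ U (i + 1))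
    (hinv : ∀ a ∈ A, ∀ i ≤ n, ∀ x ∈ U i, a x ∈ U i) {a : MulAut H} (ha : a ∈ A)
    (hst : ∀ i < n, ∀ x ∈ U (i + 1), x⁻¹ * a x ∈ U i) :
    a ∈ (MulAut.conj : H →* MulAut H).range :=
  s.core ⟨⟨a, ha⟩, FusionChain.mem_pCore_of_stabilizes_chain s.pgroup A n U h0 hn hmono hinv
    ⟨a, ha⟩ hst, rfl⟩

/-- There is no invariant series `⊥ ≤ U₁ ≤ U₂ ≤ ⊤` with factors of order at most `p`. -/
theorem Setting.false_of_series [Finite H] [Fact p.Prime] (s : Setting p A) (U₁ U₂ : Subgroup H)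
    [U₁.Normal] [U₂.Normal] (h12 : U₁ ≤ U₂) (hi₁ : ∀ a ∈ A, ∀ x ∈ U₁, a x ∈ U₁)
    (hi₂ : ∀ a ∈ A, ∀ x ∈ U₂, a x ∈ U₂) (h1 : Nat.card U₁ ≤ p)
    (h2 : Nat.card U₂ ≤ p * Nat.card U₁) (h3 : Nat.card H ≤ p * Nat.card U₂) : False := by
  obtain ⟨a, ha, hai, k, hk⟩ := s.outer
  refine hai (s.mem_inn_of_chain 3
    (fun i => match i with | 0 => ⊥ | 1 => U₁ | 2 => U₂ | _ => ⊤) rfl rfl ?_ ?_ ha ?_)
  · intro i hi
    rcases i with _ | _ | _ | i
    · exact bot_le
    · exact h12
    · exact le_top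
    · omega
  · intro b hb i hi x hx
    rcases i with _ | _ | _ | i
    · show b x ∈ (⊥ : Subgroup H)
      rw [show x = 1 from hx, map_one]
      exact one_mem _
    · exact hi₁ b hb x hx
    · exact hi₂ b hb x hx
    · exact Subgroup.mem_top _
  · intro i hi x hx
    have htop : ∀ y ∈ (⊤ : Subgroup H), a y ∈ (⊤ : Subgroup H) := fun _ _ => Subgroup.mem_top _
    have hbot : ∀ y ∈ (⊥ : Subgroup H), a y ∈ (⊥ : Subgroup H) := fun y hy => by
      rw [Subgroup.mem_bot] at hy ⊢; rw [hy, map_one]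
    rcases i with _ | _ | _ | i
    · exact mul_apply_mem_of_card_le s.pgroup bot_le (by rw [Subgroup.card_bot, mul_one]; exact h1)
        hk hbot (hi₁ a ha) hx
    · exact mul_apply_mem_of_card_le s.pgroup h12 h2 hk (hi₁ a ha) (hi₂ a ha) hx
    · exact mul_apply_mem_of_card_le s.pgroup le_top (by rw [Subgroup.card_top]; exact h3)
        hk (hi₂ a ha) htop hx
    · omega

/-- For an abelian group some outer `p`-element has order `p`. -/
theorem Setting.exists_orderOf [hp : Fact p.Prime] (s : Setting p A)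
    (hab : ∀ x y : H, x * y = y * x) :
    (∀ a ∈ A, a ∈ (MulAut.conj : H →* MulAut H).range → a = 1) ∧
      ∃ a ∈ A, a ≠ 1 ∧ a ^ p = 1 := by
  have hinn : ∀ a ∈ A, a ∈ (MulAut.conj : H →* MulAut H).range → a = 1 := by
    rintro _ - ⟨h, rfl⟩
    exact MulEquiv.ext fun x => by
      rw [MulAut.conj_apply, hab, inv_mul_cancel_left, MulAut.one_apply]
  refine ⟨hinn, ?_⟩
  obtain ⟨a, ha, hai, k, hk⟩ := s.outer
  have ha1 : a ≠ 1 := fun e => hai (e ▸ one_mem _)
  obtain ⟨i, -, hi⟩ := (Nat.dvd_prime_pow hp.out).1 (orderOf_dvd_of_pow_eq_one hk)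
  rcases i with _ | i
  · exact absurd (orderOf_eq_one_iff.1 (by simpa using hi)) ha1
  refine ⟨a ^ p ^ i, pow_mem ha _, fun e => ?_, ?_⟩
  · have h1 := orderOf_dvd_of_pow_eq_one e
    rw [hi, Nat.pow_dvd_pow_iff_le_right hp.out.one_lt] at h1
    omega
  · rw [← pow_mul, ← pow_succ, ← hi, pow_orderOf_eq_one]

end Cfsg.Agent.EssentialSmall
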