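import Cfsg.Agent.Lib.EssentialSmall.Basic
import Cfsg.Agent.Lib.GLOrder.Torus
import Mathlib.Algebra.Group.TransferInstance

/-
Essential subgroups of order `p ^ 4`.
Main results (namespace `Cfsg.Agent.EssentialSmall`): `Setting.false_of_chain`,
`isExtraspecial_of_card_cube`, `nonabelian_order_four`, `abelian_rank_three`.
-/

set_option autoImplicit false

namespace Cfsg.Agent.EssentialSmall

open Cfsg
open scoped commutatorElement

variable {H : Type*} [Group H] {p : ℕ}

/-- There is no invariant normal series with factors of order at most `p`. -/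
theorem Setting.false_of_chain [Finite H] [Fact p.Prime] {A : Subgroup (MulAut H)} (s : Setting p A)
    (n : ℕ) (U : ℕ → Subgroup H) (h0 : U 0 = ⊥) (hn : U n = ⊤) (hnor : ∀ i, (U i).Normal)
    (hmono : ∀ i < n, U i ≤ U (i + 1)) (hinv : ∀ a ∈ A, ∀ i ≤ n, ∀ x ∈ U i, a x ∈ U i)
    (hc : ∀ i < n, Nat.card (U (i + 1)) ≤ p * Nat.card (U i)) : False := by
  obtain ⟨a, ha, hai, k, hk⟩ := s.outer
  refine hai (s.mem_inn_of_chain n U h0 hn hmono hinv ha fun i hi x hx => ?_)
  haveI := hnor i
  exact mul_apply_mem_of_card_le s.pgroup (hmono i hi) (hc i hi) hk (hinv a ha i hi.le)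
    (hinv a ha (i + 1) hi) hx

theorem false_of_four [Finite H] [Fact p.Prime] {A : Subgroup (MulAut H)} (s : Setting p A)
    (U₁ U₂ U₃ : Subgroup H) [U₁.Normal] [U₂.Normal] [U₃.Normal] (h12 : U₁ ≤ U₂) (h23 : U₂ ≤ U₃)
    (hi₁ : ∀ a ∈ A, ∀ x ∈ U₁, a x ∈ U₁) (hi₂ : ∀ a ∈ A, ∀ x ∈ U₂, a x ∈ U₂)
    (hi₃ : ∀ a ∈ A, ∀ x ∈ U₃, a x ∈ U₃) (h1 : Nat.card U₁ ≤ p)
    (h2 : Nat.card U₂ ≤ p * Nat.card U₁) (h3 : Nat.card U₃ ≤ p * Nat.card U₂)
    (h4 : Nat.card H ≤ p * Nat.card U₃) : False := by
  refine s.false_of_chain 4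
    (fun i => match i with | 0 => ⊥ | 1 => U₁ | 2 => U₂ | 3 => U₃ | _ => ⊤) rfl rfl ?_ ?_ ?_ ?_
  · intro i
    rcases i with _ | _ | _ | _ | i
    exacts [inferInstanceAs (⊥ : Subgroup H).Normal, ‹U₁.Normal›, ‹U₂.Normal›, ‹U₃.Normal›,
      inferInstanceAs (⊤ : Subgroup H).Normal]
  · intro i hi
    rcases i with _ | _ | _ | _ | i
    exacts [bot_le, h12, h23, le_top, by omega]
  · intro b hb i hi x hx
    rcases i with _ | _ | _ | _ | i
    · show b x ∈ (⊥ : Subgroup H)
      rw [show x = 1 from hx, map_one]; exact one_mem _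
    exacts [hi₁ b hb x hx, hi₂ b hb x hx, hi₃ b hb x hx, Subgroup.mem_top _]
  · intro i hi
    rcases i with _ | _ | _ | _ | i
    · show Nat.card U₁ ≤ p * Nat.card (⊥ : Subgroup H)
      rwa [Subgroup.card_bot, mul_one]
    · exact h2
    · exact h3
    · show Nat.card (⊤ : Subgroup H) ≤ p * Nat.card U₃
      rwa [Subgroup.card_top]
    · omega

theorem map_mem_center (a : MulAut H) {x : H} (hx : x ∈ Subgroup.center H) :
    a x ∈ Subgroup.center H := by
  refine Subgroup.mem_center_iff.2 fun g => ?_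
  obtain ⟨g, rfl⟩ := a.surjective g
  rw [← map_mul, ← map_mul, Subgroup.mem_center_iff.1 hx g]

/-- A type in the lowest universe with `n` elements and no operations. -/
def FinCopy (n : ℕ) : Type := Fin n

instance (n : ℕ) : Finite (FinCopy n) := inferInstanceAs (Finite (Fin n))

variable [hp : Fact p.Prime]

omit hp in
theorem commute_of_commutator {x y : H} (h : ⁅x, y⁆ = 1) : x * y = y * x :=
  commutatorElement_eq_one_iff_mul_comm.1 h

/-- The centre of a nonabelian group of `p`-power order has index at least `p ^ 2`. -/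
theorem card_center_mul_le {n : ℕ} [Finite H] (hcard : Nat.card H = p ^ n)
    (hab : ¬∀ x y : H, x * y = y * x) :
    1 < Nat.card (Subgroup.center H) ∧ Nat.card (Subgroup.center H) * p ^ 2 ≤ Nat.card H := by
  set Z := Subgroup.center H
  have hH : IsPGroup p H := IsPGroup.of_card hcard
  haveI : Nontrivial H := by
    by_contra h
    rw [not_nontrivial_iff_subsingleton] at h
    exact hab fun x y => Subsingleton.elim _ _
  refine ⟨have := hH.center_nontrivial; Finite.one_lt_card, ?_⟩
  obtain ⟨i, -, hi⟩ := (Nat.dvd_prime_pow hp.out).1 (hcard ▸ Subgroup.index_dvd_card Z)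
  have h2 : 2 ≤ i := by
    by_contra h
    have : IsCyclic (H ⧸ Z) := by
      rcases i with _ | _ | i
      · haveI : Subsingleton (H ⧸ Z) := (Nat.card_eq_one_iff_unique.1
          (show Nat.card (H ⧸ Z) = 1 by rw [← Subgroup.index_eq_card, hi, pow_zero])).1
        exact isCyclic_of_subsingleton
      · exact isCyclic_of_prime_card
          (show Nat.card (H ⧸ Z) = p by rw [← Subgroup.index_eq_card, hi, pow_one])
      · omega
    exact hab (commutative_of_cyclic_center_quotient (QuotientGroup.mk' Z) (by rw [QuotientGroup.ker_mk']))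
  rw [← Z.card_mul_index, hi]
  exact Nat.mul_le_mul_left _ (Nat.pow_le_pow_right hp.out.pos h2)

/-- A nonabelian group of order `p ^ 3` and exponent `p` is extraspecial. -/
theorem isExtraspecial_of_card_cube [Finite H] (hcard : Nat.card H = p ^ 3)
    (hab : ¬∀ x y : H, x * y = y * x) (hexp : ∀ x : H, x ^ p = 1) : Cfsg.IsExtraspecial p H := by
  have hH : IsPGroup p H := IsPGroup.of_card hcard
  obtain ⟨h1, h2⟩ := card_center_mul_le hcard hab
  set Z := Subgroup.center H
  have hZ : Nat.card Z = p := by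
    obtain ⟨j, -, hj⟩ := (Nat.dvd_prime_pow hp.out).1 (hcard ▸ Subgroup.card_subgroup_dvd_card Z)
    rw [hj, hcard, ← pow_add, Nat.pow_le_pow_iff_right hp.out.one_lt] at h2
    rcases j with _ | _ | j
    · rw [hj, pow_zero] at h1; exact absurd h1 (lt_irrefl 1)
    · rw [hj, pow_one]
    · omega
  have hquot : IsMulCommutative (H ⧸ Z) :=
    IsPGroup.isMulCommutative_of_card_eq_prime_sq (p := p) (by
      have h := Subgroup.index_mul_card Z
      rw [hZ, hcard, pow_succ] at h
      rw [← Subgroup.index_eq_card]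
      exact Nat.eq_of_mul_eq_mul_right hp.out.pos h)
  have hcomm : commutator H ≤ Z := Subgroup.Normal.quotient_commutative_iff_commutator_le.1 hquot
  have hc : commutator H = Z := by
    refine Subgroup.eq_of_le_of_card_ge hcomm ?_
    obtain ⟨j, -, hj⟩ := (Nat.dvd_prime_pow hp.out).1
      (hcard ▸ Subgroup.card_subgroup_dvd_card (commutator H))
    rw [hZ, hj]
    refine Nat.le_self_pow (fun e => hab fun x y => commute_of_commutator ?_) p
    have hb := Subgroup.eq_bot_of_card_eq _ (by rw [hj, e, pow_zero])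
    exact Subgroup.mem_bot.1
      (hb ▸ Subgroup.commutator_mem_commutator (Subgroup.mem_top x) (Subgroup.mem_top y))
  refine ⟨⟨hH, le_antisymm (PGroup.frattini_le_of_quotient_elementary (p := p) hcomm fun x => ?_) ?_, hc⟩, hZ⟩
  · rw [hexp]; exact one_mem _
  · rw [show Subgroup.center H = commutator H from hc.symm]
    exact PGroup.commutator_le_frattini hH

/-- The possible nonabelian groups of order `p ^ 4`. -/
theorem nonabelian_order_four [Finite H] {A : Subgroup (MulAut H)} (s : Setting p A)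
    (hcard : Nat.card H = p ^ 4) (hab : ¬∀ x y : H, x * y = y * x) :
    (Odd p ∧ ∃ (E : Type) (_ : Group E) (_ : Finite E), Cfsg.IsExtraspecial p E ∧
        Nat.card E = p ^ 3 ∧ (∀ x : E, x ^ p = 1) ∧ Nonempty (H ≃* E × Multiplicative (ZMod p))) ∨
      (p = 2 ∧ Nonempty (H ≃* QuaternionGroup 2 × Multiplicative (ZMod 2))) ∨
      ((∀ x : H, x ^ (p ^ 2) = 1) ∧ IsCyclic (Subgroup.center H) ∧
        Nat.card (Subgroup.center H) = p ^ 2) := by
  have hH := s.pgroup
  have hp1 := hp.out.one_lt
  obtain ⟨hz1, hz2⟩ := card_center_mul_le hcard hab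
  set Z := Subgroup.center H
  have hZi : ∀ a ∈ A, ∀ x ∈ Z, a x ∈ Z := fun a _ _ hx => map_mem_center a hx
  have hdiv : ∀ U : Subgroup H, ∃ j ≤ 4, Nat.card U = p ^ j := fun U => by
    have h := Subgroup.card_subgroup_dvd_card U
    rw [hcard] at h
    exact (Nat.dvd_prime_pow hp.out).1 h
  obtain ⟨j, -, hj⟩ := hdiv Z
  rw [hj] at hz1 hz2
  rw [hcard, ← pow_add, Nat.pow_le_pow_iff_right hp1] at hz2
  have hj0 : j ≠ 0 := fun e => by rw [e, pow_zero] at hz1; omega
  obtain rfl | rfl : j = 1 ∨ j = 2 := by omega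
  · -- centre of order `p`
    exfalso
    rw [pow_one] at hj
    by_cases hq : ∀ x y : H, ⁅x, y⁆ ∈ Z
    · obtain ⟨x, hx⟩ : ∃ x : H, x ∉ Z := by
        by_contra h
        push Not at h
        exact hab fun x y => (Subgroup.mem_center_iff.1 (h y) x)
      let φ : H →* H := MonoidHom.mk' (fun g => ⁅g, x⁆) fun g g' =>
        show ⁅g * g', x⁆ = ⁅g, x⁆ * ⁅g', x⁆ by
          rw [PGroup.commutator_mul_left ((Subgroup.mem_center_iff.1 (hq g' x) g))]
          exact (Subgroup.mem_center_iff.1 (hq g x) _)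
      have hker : ∀ g, g ∈ φ.ker ↔ g * x = x * g := fun g =>
        commutatorElement_eq_one_iff_mul_comm
      have hK3 : Nat.card φ.ker = p ^ 3 := by
        obtain ⟨i, -, hi⟩ := hdiv φ.ker
        have h1 : Nat.card φ.ker * Nat.card φ.range = p ^ 4 := by
          rw [← Subgroup.index_ker, Subgroup.card_mul_index, hcard]
        have h2 : Nat.card φ.range ≤ p :=
          hj ▸ Subgroup.card_le_of_le (by rintro _ ⟨g, rfl⟩; exact hq g x)
        have h3 : φ.ker ≠ ⊤ := fun e =>
          hx (Subgroup.mem_center_iff.2 fun g => (hker g).1 (e ▸ Subgroup.mem_top g))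
        have h4 : i < 4 := by
          by_contra h
          exact h3 (Subgroup.eq_top_of_le_card _ (by
            rw [hi, hcard]; exact Nat.pow_le_pow_right hp.out.pos (by omega)))
        have h5 : p ^ 4 ≤ p ^ (i + 1) := by
          rw [← h1, hi, pow_succ]; exact Nat.mul_le_mul_left _ h2
        rw [Nat.pow_le_pow_iff_right hp1] at h5
        rw [hi, show i = 3 by omega]
      have hKab : ∀ u v : φ.ker, u * v = v * u := by
        by_contra h
        obtain ⟨-, h2⟩ := card_center_mul_le (H := φ.ker) hK3 h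
        set ZK := (Subgroup.center φ.ker).map φ.ker.subtype
        have hlt : Z < ZK := by
          have hxK : x ∈ φ.ker := (hker x).2 rfl
          refine lt_of_le_of_ne (fun z hz => ⟨⟨z, (hker z).2 (Subgroup.mem_center_iff.1 hz x).symm⟩,
            Subgroup.mem_center_iff.2 fun g => Subtype.ext (Subgroup.mem_center_iff.1 hz g), rfl⟩) ?_
          exact fun e => hx (e ▸ ⟨⟨x, hxK⟩, Subgroup.mem_center_iff.2 fun g =>
            Subtype.ext ((hker (g : H)).1 g.2), rfl⟩)
        have h3 := PGroup.mul_card_le_of_lt hH hlt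
        rw [hj, Subgroup.card_map_of_injective φ.ker.subtype_injective] at h3
        rw [hK3] at h2
        have := (Nat.mul_le_mul_right (p ^ 2) h3).trans h2
        rw [← pow_two, ← pow_add, Nat.pow_le_pow_iff_right hp1] at this
        omega
      obtain ⟨w, hw⟩ : ∃ w, w ∉ φ.ker := by
        by_contra h
        push Not at h
        exact hx (Subgroup.mem_center_iff.2 fun g => (hker g).1 (h g))
      let ψ : φ.ker →* H := MonoidHom.mk' (fun g => ⁅(g : H), w⁆) fun g g' =>
        show ⁅(g : H) * g', w⁆ = ⁅(g : H), w⁆ * ⁅(g' : H), w⁆ by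
          rw [PGroup.commutator_mul_left ((Subgroup.mem_center_iff.1 (hq g' w) g))]
          exact (Subgroup.mem_center_iff.1 (hq g w) _)
      have htop : φ.ker ⊔ Subgroup.zpowers w = ⊤ := by
        have hlt : φ.ker < φ.ker ⊔ Subgroup.zpowers w := lt_of_le_of_ne le_sup_left fun e =>
          hw (e ▸ Subgroup.mem_sup_right (Subgroup.mem_zpowers w))
        have h6 := PGroup.mul_card_le_of_lt hH hlt
        rw [hK3] at h6
        exact Subgroup.eq_top_of_le_card _ (by rwa [hcard, pow_succ'])
      have hsub : ψ.ker.map φ.ker.subtype ≤ Z := by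
        rintro _ ⟨g, hg, rfl⟩
        refine Subgroup.mem_center_iff.2 fun u => ?_
        have hle : φ.ker ⊔ Subgroup.zpowers w ≤ Subgroup.centralizer {(g : H)} := by
          refine sup_le (fun v hv => ?_) (Subgroup.zpowers_le.2 ?_)
          · rw [Subgroup.mem_centralizer_singleton_iff]
            exact congrArg Subtype.val (hKab ⟨v, hv⟩ g)
          · rw [Subgroup.mem_centralizer_singleton_iff]
            exact (commute_of_commutator hg).symm
        exact Subgroup.mem_centralizer_singleton_iff.1 (hle (htop ▸ Subgroup.mem_top u))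
      have h7 : Nat.card ψ.ker * Nat.card ψ.range = p ^ 3 := by
        rw [← Subgroup.index_ker, Subgroup.card_mul_index, hK3]
      have h8 : Nat.card ψ.range ≤ p :=
        hj ▸ Subgroup.card_le_of_le (by rintro _ ⟨g, rfl⟩; exact hq g w)
      have h9 : Nat.card ψ.ker ≤ p := by
        rw [← Subgroup.card_map_of_injective φ.ker.subtype_injective, ← hj]
        exact Subgroup.card_le_of_le hsub
      have := h7.symm.trans_le (Nat.mul_le_mul h9 h8)
      rw [← pow_two, Nat.pow_le_pow_iff_right hp1] at this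
      omega
    have hq' : ¬∀ u v : H ⧸ Z, u * v = v * u := fun h => hq fun x y => by
      rw [← QuotientGroup.eq_one_iff]
      show QuotientGroup.mk' Z ⁅x, y⁆ = 1
      rw [map_commutatorElement]
      exact commutatorElement_eq_one_iff_mul_comm.2 (h _ _)
    have hQc : Nat.card (H ⧸ Z) = p ^ 3 := by
      have h := Subgroup.index_mul_card Z
      rw [hj, hcard, Subgroup.index_eq_card, pow_succ] at h
      exact Nat.eq_of_mul_eq_mul_right hp.out.pos h
    obtain ⟨hc1, hc2⟩ := card_center_mul_le (H := H ⧸ Z) hQc hq'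
    set Z₂ := (Subgroup.center (H ⧸ Z)).comap (QuotientGroup.mk' Z)
    haveI : Z₂.Normal := Subgroup.Normal.comap inferInstance _
    have hmem : ∀ x, x ∈ Z₂ ↔ ∀ g, ⁅x, g⁆ ∈ Z := by
      intro x
      rw [Subgroup.mem_comap, Subgroup.mem_center_iff]
      refine ⟨fun h g => ?_, fun h g' => ?_⟩
      · rw [← QuotientGroup.eq_one_iff]
        show QuotientGroup.mk' Z ⁅x, g⁆ = 1
        rw [map_commutatorElement]
        exact commutatorElement_eq_one_iff_mul_comm.2 (h _).symm
      · obtain ⟨g, rfl⟩ := QuotientGroup.mk'_surjective Z g'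
        have := (QuotientGroup.eq_one_iff _).2 (h g)
        exact (commutatorElement_eq_one_iff_mul_comm.1
          ((map_commutatorElement (QuotientGroup.mk' Z) x g).symm.trans this)).symm
    have hi2 : ∀ a : MulAut H, ∀ x ∈ Z₂, a x ∈ Z₂ := fun a x hx => (hmem _).2 fun g => by
      obtain ⟨g, rfl⟩ := a.surjective g
      rw [← map_commutatorElement]
      exact map_mem_center a ((hmem x).1 hx g)
    have hle12 : Z ≤ Z₂ := fun z hz => (hmem z).2 fun g => by
      rw [commutatorElement_eq_one_iff_mul_comm.2 (Subgroup.mem_center_iff.1 hz g).symm]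
      exact one_mem _
    have hZ2c : Nat.card Z₂ = p ^ 2 := by
      have h := FusionAbelianIndex.card_comap (QuotientGroup.mk' Z) (Subgroup.center (H ⧸ Z))
      rw [QuotientGroup.ker_mk', MonoidHom.range_eq_top.2 (QuotientGroup.mk'_surjective Z),
        inf_top_eq, hj] at h
      obtain ⟨i, -, hi⟩ := (Nat.dvd_prime_pow hp.out).1
        (hQc ▸ Subgroup.card_subgroup_dvd_card (Subgroup.center (H ⧸ Z)))
      rw [hi, hQc, ← pow_add, Nat.pow_le_pow_iff_right hp1] at hc2
      rw [hi] at hc1
      have hi0 : i ≠ 0 := fun e => by rw [e, pow_zero] at hc1; omega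
      rw [h, hi, show i = 1 by omega]
      ring
    obtain ⟨u, hu2, huZ⟩ : ∃ u ∈ Z₂, u ∉ Z := SetLike.exists_of_lt (lt_of_le_of_ne hle12 fun e => by
      have := congrArg (fun U : Subgroup H => Nat.card U) e
      simp only [hj, hZ2c] at this
      nlinarith)
    set U₃ := Subgroup.centralizer (Z₂ : Set H)
    have hab2 : Z₂ ≤ U₃ := by
      intro x hx
      refine Subgroup.mem_centralizer_iff.2 fun y hy => ?_
      have := IsPGroup.isMulCommutative_of_card_eq_prime_sq (G := Z₂) (p := p) hZ2c
      exact congrArg Subtype.val (this.is_comm.comm ⟨y, hy⟩ ⟨x, hx⟩)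
    have hgen : Z ⊔ Subgroup.zpowers u = Z₂ := by
      refine Subgroup.eq_of_le_of_card_ge (sup_le hle12 (Subgroup.zpowers_le.2 hu2)) ?_
      have h := PGroup.mul_card_le_of_lt hH (lt_of_le_of_ne le_sup_left fun e =>
        huZ (e ▸ Subgroup.mem_sup_right (Subgroup.mem_zpowers u)) : Z < Z ⊔ Subgroup.zpowers u)
      rw [hj] at h
      rwa [hZ2c, pow_two]
    let φ : H →* H := MonoidHom.mk' (fun g => ⁅g, u⁆) fun g g' =>
      show ⁅g * g', u⁆ = ⁅g, u⁆ * ⁅g', u⁆ by
        have hc : ∀ k, ⁅k, u⁆ ∈ Z := fun k => by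
          rw [← commutatorElement_inv]; exact inv_mem ((hmem u).1 hu2 k)
        rw [PGroup.commutator_mul_left ((Subgroup.mem_center_iff.1 (hc g') g))]
        exact (Subgroup.mem_center_iff.1 (hc g) _)
    have hk : φ.ker ≤ U₃ := by
      intro g hg
      have hle : Z₂ ≤ Subgroup.centralizer {g} := by
        rw [← hgen]
        refine sup_le (fun z hz => Subgroup.mem_centralizer_singleton_iff.2
          (Subgroup.mem_center_iff.1 hz g).symm) (Subgroup.zpowers_le.2 ?_)
        exact Subgroup.mem_centralizer_singleton_iff.2 (commute_of_commutator hg).symm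
      exact Subgroup.mem_centralizer_iff.2 fun y hy =>
        Subgroup.mem_centralizer_singleton_iff.1 (hle hy)
    have h3u : U₃ ≠ ⊤ := fun e => huZ (Subgroup.mem_center_iff.2 fun g =>
      (Subgroup.mem_centralizer_iff.1 (e ▸ Subgroup.mem_top g : g ∈ U₃) u hu2).symm)
    refine false_of_four s Z Z₂ U₃ hle12 hab2 hZi (fun a _ => hi2 a) (fun a _ x hx => ?_) hj.le
      (by rw [hj, hZ2c, pow_two]) ?_ ?_
    · refine Subgroup.mem_centralizer_iff.2 fun y hy => ?_
      obtain ⟨y, rfl⟩ := a.surjective y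
      have hy' : y ∈ Z₂ := by
        have := hi2 a.symm _ hy
        rwa [MulEquiv.symm_apply_apply] at this
      rw [← map_mul, ← map_mul, Subgroup.mem_centralizer_iff.1 hx y hy']
    · have h := PGroup.mul_card_le_of_lt hH (lt_top_iff_ne_top.2 h3u)
      rw [Subgroup.card_top, hcard] at h
      rw [hZ2c]
      refine Nat.le_of_mul_le_mul_left (h.trans ?_) hp.out.pos
      rw [← pow_succ', ← pow_succ']
    · have h1 : Nat.card φ.ker * Nat.card φ.range = Nat.card H := by
        rw [← Subgroup.index_ker, Subgroup.card_mul_index]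
      have h2 : Nat.card φ.range ≤ p := hj ▸ Subgroup.card_le_of_le (by
        rintro _ ⟨g, rfl⟩
        show ⁅g, u⁆ ∈ Z
        rw [← commutatorElement_inv]; exact inv_mem ((hmem u).1 hu2 g))
      rw [← h1, mul_comm p]
      exact Nat.mul_le_mul (Subgroup.card_le_of_le hk) h2
  -- centre of order `p ^ 2`
  have hquot : IsMulCommutative (H ⧸ Z) :=
    IsPGroup.isMulCommutative_of_card_eq_prime_sq (p := p) (by
      have h := Subgroup.index_mul_card Z
      rw [hj, hcard, show p ^ 4 = p ^ 2 * p ^ 2 by ring, Subgroup.index_eq_card] at h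
      exact Nat.eq_of_mul_eq_mul_right (by positivity) h)
  have hcz : ∀ x y : H, ⁅x, y⁆ ∈ Z := fun x y =>
    Subgroup.Normal.quotient_commutative_iff_commutator_le.1 hquot
      (Subgroup.commutator_mem_commutator (Subgroup.mem_top x) (Subgroup.mem_top y))
  have hcen : ∀ x y g : H, g * ⁅x, y⁆ = ⁅x, y⁆ * g := fun x y g =>
    Subgroup.mem_center_iff.1 (hcz x y) g
  have hsup : ∀ (x : H), x ∉ Z → p ^ 3 ≤ Nat.card ↥(Z ⊔ Subgroup.zpowers x) := fun x hx => by
    have h := PGroup.mul_card_le_of_lt hH (lt_of_le_of_ne le_sup_left fun e =>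
      hx (e ▸ Subgroup.mem_sup_right (Subgroup.mem_zpowers x)) : Z < Z ⊔ Subgroup.zpowers x)
    rwa [hj, ← pow_succ'] at h
  have hcomab : ∀ (x : H), ∀ u ∈ Z ⊔ Subgroup.zpowers x, u * x = x * u := by
    intro x u hu
    refine Subgroup.mem_centralizer_singleton_iff.1 (show u ∈ Subgroup.centralizer {x} from ?_)
    refine sup_le (fun z hz => Subgroup.mem_centralizer_singleton_iff.2
      (Subgroup.mem_center_iff.1 hz x).symm) (Subgroup.zpowers_le.2 ?_) hu
    exact Subgroup.mem_centralizer_singleton_iff.2 rfl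
  have hpow : ∀ x : H, x ^ p ∈ Z := by
    intro x
    by_contra hxp
    have hx : x ∉ Z := fun h => hxp (pow_mem h p)
    have htop : Z ⊔ Subgroup.zpowers x = ⊤ := by
      have hne : x ∉ Z ⊔ Subgroup.zpowers (x ^ p) := by
        intro h
        -- the image of `x` would be a power of the image of `x ^ p`
        obtain ⟨z, hz, w, hw, e⟩ := Subgroup.mem_sup_of_normal_left.1 h
        obtain ⟨k, rfl⟩ := Subgroup.mem_zpowers_iff.1 hw
        have e1 : QuotientGroup.mk' Z x = (QuotientGroup.mk' Z x) ^ ((p : ℤ) * k) := by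
          conv_lhs => rw [← e]
          rw [map_mul, show QuotientGroup.mk' Z z = 1 from (QuotientGroup.eq_one_iff z).2 hz, one_mul,
            map_zpow, map_pow, ← zpow_natCast, ← zpow_mul]
        have e2 : (QuotientGroup.mk' Z x) ^ ((p : ℤ) * k - 1) = 1 := by
          rw [zpow_sub_one, ← e1, mul_inv_cancel]
        have e3 := orderOf_dvd_iff_zpow_eq_one.2 e2
        obtain ⟨n, hn⟩ := (hH.to_quotient Z) (QuotientGroup.mk' Z x)
        obtain ⟨i, -, hi⟩ := (Nat.dvd_prime_pow hp.out).1 (orderOf_dvd_of_pow_eq_one hn)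
        rw [hi] at e3
        rcases i with _ | i
        · exact hx ((QuotientGroup.eq_one_iff x).1 (orderOf_eq_one_iff.1 (by simpa using hi)))
        · have h4 : (p : ℤ) ∣ (p : ℤ) * k - 1 :=
            (Int.natCast_dvd_natCast.2 (dvd_pow_self p (Nat.succ_ne_zero i))).trans e3
          have h5 : (p : ℤ) ∣ 1 := by
            have := dvd_sub (dvd_mul_right (p : ℤ) k) h4
            simpa using this
          exact hp.out.one_lt.ne' (Nat.dvd_one.1 (Int.natCast_dvd_natCast.1 (by simpa using h5)))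
      have hlt : Z ⊔ Subgroup.zpowers (x ^ p) < Z ⊔ Subgroup.zpowers x :=
        lt_of_le_of_ne (sup_le_sup_left (Subgroup.zpowers_le.2 (pow_mem (Subgroup.mem_zpowers x) p)) _)
          fun e => hne (e ▸ Subgroup.mem_sup_right (Subgroup.mem_zpowers x))
      refine Subgroup.eq_top_of_le_card _ ?_
      have := PGroup.mul_card_le_of_lt hH hlt
      rw [hcard, show 4 = 3 + 1 from rfl, pow_succ']
      exact (Nat.mul_le_mul_left p (hsup _ hxp)).trans this
    exact hx (Subgroup.mem_center_iff.2 fun g => hcomab x g (htop ▸ Subgroup.mem_top g))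
  obtain ⟨x, y, hxy⟩ : ∃ x y : H, x * y ≠ y * x := by
    by_contra h; push Not at h; exact hab h
  set c := ⁅x, y⁆
  have hc1 : c ≠ 1 := fun e => hxy (commute_of_commutator e)
  have hcp : c ^ p = 1 := by
    rw [← PGroup.commutator_pow_left (hcen x y x) p]
    exact commutatorElement_eq_one_iff_mul_comm.2 (Subgroup.mem_center_iff.1 (hpow x) y).symm
  set C := Subgroup.zpowers c
  haveI hCn : C.Normal := PGroup.zpowers_normal_of_mem_center (hcz x y)
  have hCc : Nat.card C = p := by rw [Nat.card_zpowers, orderOf_eq_prime hcp hc1]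
  have hCZ : C ≤ Z := Subgroup.zpowers_le.2 (hcz x y)
  have htop : Z ⊔ Subgroup.zpowers x ⊔ Subgroup.zpowers y = ⊤ := by
    have hx : x ∉ Z := fun h => hxy (Subgroup.mem_center_iff.1 h y).symm
    have hlt : Z ⊔ Subgroup.zpowers x < Z ⊔ Subgroup.zpowers x ⊔ Subgroup.zpowers y :=
      lt_of_le_of_ne le_sup_left fun e =>
        hxy (hcomab x y (e ▸ Subgroup.mem_sup_right (Subgroup.mem_zpowers y))).symm
    refine Subgroup.eq_top_of_le_card _ ?_
    rw [hcard, show 4 = 3 + 1 from rfl, pow_succ']
    exact (Nat.mul_le_mul_left p (hsup x hx)).trans (PGroup.mul_card_le_of_lt hH hlt)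
  have hCall : ∀ g h : H, ⁅g, h⁆ ∈ C := by
    have hmod : ∀ g h : H, ⁅g, h⁆ ∈ C ↔
        QuotientGroup.mk' C g * QuotientGroup.mk' C h = QuotientGroup.mk' C h * QuotientGroup.mk' C g := by
      intro g h
      rw [← QuotientGroup.eq_one_iff, show ((⁅g, h⁆ : H) : H ⧸ C) = QuotientGroup.mk' C ⁅g, h⁆ from rfl,
        map_commutatorElement, commutatorElement_eq_one_iff_mul_comm]
    have hcomm : ∀ g, g ∈ Z ⊔ Subgroup.zpowers x ⊔ Subgroup.zpowers y →
        ∀ h, (⁅x, h⁆ ∈ C ∧ ⁅y, h⁆ ∈ C) → ⁅g, h⁆ ∈ C := by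
      intro g hg h hh
      rw [hmod]
      refine (Subgroup.mem_centralizer_singleton_iff (g := QuotientGroup.mk' C h)).1 (show g ∈
        (Subgroup.centralizer {QuotientGroup.mk' C h}).comap (QuotientGroup.mk' C) from ?_)
      refine sup_le (sup_le (fun z hz => ?_) (Subgroup.zpowers_le.2 ?_)) (Subgroup.zpowers_le.2 ?_) hg
      · refine Subgroup.mem_centralizer_singleton_iff.2 ?_
        rw [← map_mul, ← map_mul, Subgroup.mem_center_iff.1 hz h]
      · exact Subgroup.mem_centralizer_singleton_iff.2 ((hmod x h).1 hh.1)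
      · exact Subgroup.mem_centralizer_singleton_iff.2 ((hmod y h).1 hh.2)
    have hyx : ⁅y, x⁆ ∈ C := by
      rw [← commutatorElement_inv]; exact inv_mem (Subgroup.mem_zpowers c)
    intro g h
    refine hcomm g (htop ▸ Subgroup.mem_top g) h ⟨?_, ?_⟩ <;> rw [← commutatorElement_inv] <;>
      refine inv_mem (hcomm h (htop ▸ Subgroup.mem_top h) _ ⟨?_, ?_⟩)
    · rw [commutatorElement_self]; exact one_mem _
    · exact hyx
    · exact Subgroup.mem_zpowers c
    · rw [commutatorElement_self]; exact one_mem _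
  have hCi : ∀ a ∈ A, ∀ g ∈ C, a g ∈ C := by
    intro a _ g hg
    obtain ⟨k, rfl⟩ := Subgroup.mem_zpowers_iff.1 hg
    rw [map_zpow, show a c = ⁅a x, a y⁆ from map_commutatorElement _ _ _]
    exact zpow_mem (hCall _ _) k
  -- all `p`-th powers lie in `C`
  have hpC : ∀ g : H, g ^ p ∈ C := by
    let π := QuotientGroup.mk' C
    let q : H →* H ⧸ C := MonoidHom.mk' (fun g => π g ^ p) fun g h => by
      rw [map_mul]
      refine Commute.mul_pow ?_ p
      refine commutatorElement_eq_one_iff_mul_comm.1 ?_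
      rw [← map_commutatorElement]
      exact (QuotientGroup.eq_one_iff _).2 (hCall g h)
    have hqm : ∀ g, g ∈ q.ker ↔ g ^ p ∈ C := fun g => by
      show π g ^ p = 1 ↔ _
      rw [← map_pow]; exact QuotientGroup.eq_one_iff _
    have hZC : Nat.card (Z.map π) = p := by
      have h := FusionAbelianIndex.card_comap π (Z.map π)
      rw [QuotientGroup.ker_mk', Subgroup.comap_map_eq_self (by rwa [QuotientGroup.ker_mk']),
        inf_eq_left.2 (Subgroup.map_le_range _ _), hj, hCc, pow_two] at h
      exact (Nat.eq_of_mul_eq_mul_left hp.out.pos (by linarith)).symm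
    have hZq : Z ≤ q.ker := by
      intro z hz
      rw [hqm]
      have : (⟨π z, ⟨z, hz, rfl⟩⟩ : Z.map π) ^ Nat.card (Z.map π) = 1 := pow_card_eq_one'
      rw [hZC] at this
      have h2 : π z ^ p = 1 := congrArg Subtype.val this
      rw [← map_pow] at h2
      exact (QuotientGroup.eq_one_iff _).1 h2
    by_contra hne
    push Not at hne
    obtain ⟨g, hg⟩ := hne
    refine false_of_four s C Z q.ker hCZ hZq hCi hZi (fun a ha k hk => ?_) hCc.le
      (by rw [hj, hCc, pow_two]) ?_ ?_
    · rw [hqm] at hk ⊢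
      rw [← map_pow]; exact hCi a ha _ hk
    · have h := PGroup.mul_card_le_of_lt hH (lt_top_iff_ne_top.2 fun e =>
        hg ((hqm g).1 (e ▸ Subgroup.mem_top g)) : q.ker < ⊤)
      rw [Subgroup.card_top, hcard] at h
      rw [hj]
      refine Nat.le_of_mul_le_mul_left (h.trans ?_) hp.out.pos
      rw [← pow_succ', ← pow_succ']
    · have h1 : Nat.card q.ker * Nat.card q.range = Nat.card H := by
        rw [← Subgroup.index_ker, Subgroup.card_mul_index]
      rw [← h1, mul_comm p]
      refine Nat.mul_le_mul_left _ (hZC ▸ Subgroup.card_le_of_le ?_)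
      rintro _ ⟨k, rfl⟩
      exact ⟨k ^ p, hpow k, map_pow π k p⟩
  have hexp2 : ∀ g : H, g ^ (p ^ 2) = 1 := fun g => by
    obtain ⟨k, hk⟩ := Subgroup.mem_zpowers_iff.1 (hpC g)
    rw [pow_two, pow_mul, ← hk, ← zpow_natCast, ← zpow_mul, mul_comm, zpow_mul, zpow_natCast, hcp,
      one_zpow]
  by_cases hcyc : IsCyclic Z
  · exact .inr (.inr ⟨hexp2, hcyc, hj⟩)
  have hZexp : ∀ z ∈ Z, z ^ p = 1 := by
    intro z hz
    by_contra hzp
    refine hcyc (isCyclic_of_orderOf_eq_card (⟨z, hz⟩ : Z) ?_)
    rw [hj]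
    refine orderOf_eq_prime_pow (n := 1) ?_ (Subtype.ext (hexp2 z))
    rw [pow_one]
    exact fun e => hzp (congrArg Subtype.val e)
  have hfr : frattini H ≤ C := by
    refine PGroup.frattini_le_of_quotient_elementary ?_ hpC
    rw [commutator_def, Subgroup.commutator_le]
    exact fun g _ h _ => hCall g h
  obtain ⟨z, hz, hzC⟩ : ∃ z ∈ Z, z ∉ C := SetLike.exists_of_lt (lt_of_le_of_ne hCZ fun e => by
    have := congrArg (fun U : Subgroup H => Nat.card U) e
    simp only [hj, hCc] at this
    nlinarith)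
  obtain ⟨M, hM, hzM⟩ : ∃ M : Subgroup H, IsCoatom M ∧ z ∉ M := by
    by_contra h
    push Not at h
    exact hzC (hfr ((PGroup.le_frattini (K := Subgroup.zpowers z)
      fun M hM => Subgroup.zpowers_le.2 (h M hM)) (Subgroup.mem_zpowers z)))
  have hMc : Nat.card M = p ^ 3 := by
    have h := Subgroup.index_mul_card M
    rw [PGroup.isCoatom_index hH hM, hcard, show 4 = 3 + 1 from rfl, pow_succ'] at h
    exact Nat.eq_of_mul_eq_mul_left hp.out.pos h
  have hzp : z ^ p = 1 := hZexp z hz
  have hMab : ¬∀ u v : M, u * v = v * u := by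
    intro h
    have hsupM : M ⊔ Z = ⊤ := hM.2 _ (lt_of_le_of_ne le_sup_left fun e =>
      hzM (e ▸ Subgroup.mem_sup_right hz))
    refine hab fun u v => ?_
    have hle : ∀ w : H, (∀ k ∈ M, k * w = w * k) → ∀ k, k * w = w * k := fun w hw k => by
      refine Subgroup.mem_centralizer_singleton_iff.1
        (show k ∈ Subgroup.centralizer {w} from ?_)
      refine (sup_le (fun k hk => Subgroup.mem_centralizer_singleton_iff.2 (hw k hk))
        fun k hk => Subgroup.mem_centralizer_singleton_iff.2 (Subgroup.mem_center_iff.1 hk w).symm :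
        M ⊔ Z ≤ _) (hsupM ▸ Subgroup.mem_top k)
    refine hle v (fun k hk => ((hle k (fun l hl => congrArg Subtype.val (h ⟨l, hl⟩ ⟨k, hk⟩))) v).symm) u
  -- the product decomposition
  haveI : NeZero p := ⟨hp.out.ne_zero⟩
  have hval : ∀ i j : ZMod p, z ^ (i + j).val = z ^ i.val * z ^ j.val := fun i j => by
    rw [← pow_add, ZMod.val_add, ← pow_eq_pow_mod _ hzp]
  have prod_iso : ∀ {E : Type} [Group E] (e : E ≃* M), Nonempty (H ≃* E × Multiplicative (ZMod p)) := by
    intro E _ e
    let ψ : E × Multiplicative (ZMod p) →* H :=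
      MonoidHom.mk' (fun u => (e u.1 : H) * z ^ u.2.toAdd.val) fun u v => by
        simp only [Prod.fst_mul, Prod.snd_mul, map_mul, Subgroup.coe_mul, toAdd_mul, hval]
        have := Subgroup.mem_center_iff.1 (pow_mem hz u.2.toAdd.val) (e v.1 : H)
        rw [mul_assoc, mul_assoc, ← mul_assoc (z ^ u.2.toAdd.val), ← this, mul_assoc]
    have hψ : Function.Injective ψ := by
      refine (injective_iff_map_eq_one ψ).2 fun u hu => ?_
      have h1 : (e u.1 : H) * z ^ u.2.toAdd.val = 1 := hu
      have h2 : z ^ u.2.toAdd.val ∈ M := by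
        rw [eq_inv_of_mul_eq_one_right h1]
        exact inv_mem (e u.1).2
      have h3 : u.2.toAdd.val = 0 := by
        by_contra hne
        refine hzM ?_
        have hco : Nat.Coprime u.2.toAdd.val p := Nat.Coprime.symm <|
          (hp.out.coprime_iff_not_dvd).2 fun hd =>
            absurd (Nat.le_of_dvd (Nat.pos_of_ne_zero hne) hd) (not_le.2 (ZMod.val_lt _))
        have hzo : Nat.Coprime u.2.toAdd.val (orderOf z) :=
          Nat.Coprime.coprime_dvd_right (orderOf_dvd_of_pow_eq_one hzp) hco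
        obtain ⟨k, hk⟩ := exists_pow_eq_self_of_coprime hzo
        exact hk ▸ pow_mem h2 k
      rw [h3, pow_zero, mul_one] at h1
      rw [ZMod.val_eq_zero] at h3
      exact Prod.ext (e.injective ((Subtype.ext h1).trans (map_one e).symm))
        (Multiplicative.toAdd.injective h3)
    haveI : Finite E := Finite.of_equiv M e.symm.toEquiv
    refine ⟨(MulEquiv.ofBijective ψ ((Nat.bijective_iff_injective_and_card ψ).2 ⟨hψ, ?_⟩)).symm⟩
    rw [Nat.card_prod, Nat.card_congr e.toEquiv, hMc,
      Nat.card_congr (Multiplicative.toAdd : Multiplicative (ZMod p) ≃ ZMod p), Nat.card_zmod, hcard]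
    ring
  rcases hp.out.eq_two_or_odd' with h2 | h2
  · subst h2
    refine .inr (.inl ⟨rfl, ?_⟩)
    have hsq : ∀ g, g ^ 2 = 1 ∨ g ^ 2 = c := by
      intro g
      obtain ⟨k, hk⟩ := Subgroup.mem_zpowers_iff.1 (hpC g)
      rcases Int.even_or_odd k with ⟨i, rfl⟩ | ⟨i, rfl⟩
      · left
        rw [← hk, ← two_mul, zpow_mul, show c ^ (2 : ℤ) = 1 by exact_mod_cast hcp, one_zpow]
      · right
        rw [← hk, zpow_add_one, zpow_mul, show c ^ (2 : ℤ) = 1 by exact_mod_cast hcp, one_zpow, one_mul]
    have hsqz : ∀ g, ∀ w ∈ Z, (g * w) ^ 2 = g ^ 2 := fun g w hw => by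
      rw [(show Commute g w from Subgroup.mem_center_iff.1 hw g).mul_pow, hZexp w hw, mul_one]
    have hnc : ∀ g h : H, g * h ≠ h * g → ⁅g, h⁆ = c := by
      intro g h hgh
      obtain ⟨k, hk⟩ := Subgroup.mem_zpowers_iff.1 (hCall g h)
      rcases Int.even_or_odd k with ⟨i, rfl⟩ | ⟨i, rfl⟩
      · refine absurd (commute_of_commutator ?_) hgh
        rw [← hk, ← two_mul, zpow_mul, show c ^ (2 : ℤ) = 1 by exact_mod_cast hcp, one_zpow]
      · rw [← hk, zpow_add_one, zpow_mul, show c ^ (2 : ℤ) = 1 by exact_mod_cast hcp, one_zpow, one_mul]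
    have hall : ∀ g, g ∉ Z → g ^ 2 = c := by
      by_contra hne
      push Not at hne
      obtain ⟨g, hg, hg2⟩ := hne
      have hg1 : g ^ 2 = 1 := (hsq g).resolve_right hg2
      obtain ⟨h, hh⟩ : ∃ h : H, h ^ 2 = c := by
        by_contra hn
        push Not at hn
        refine hab fun u v => ?_
        have hi : ∀ w : H, w⁻¹ = w := fun w => inv_eq_of_mul_eq_one_left
          (by rw [← pow_two]; exact (hsq w).resolve_right (hn w))
        calc u * v = (u * v)⁻¹ := (hi _).symm
          _ = v * u := by rw [mul_inv_rev, hi, hi]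
      have hhZ : h ∉ Z := fun h' => hc1 (by rw [← hh, hZexp h h'])
      set U := Z ⊔ Subgroup.zpowers h
      haveI : U.Normal := by
        refine ⟨fun u hu k => ?_⟩
        rw [show k * u * k⁻¹ = ⁅k, u⁆ * u by group]
        exact mul_mem (Subgroup.mem_sup_left (hcz k u)) hu
      have hUi : ∀ a ∈ A, ∀ u ∈ U, a u ∈ U := by
        intro a ha
        refine (show U ≤ U.comap (a : MulAut H).toMonoidHom from sup_le
          (fun w hw => Subgroup.mem_sup_left (hZi a ha w hw)) (Subgroup.zpowers_le.2 ?_))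
        show a h ∈ U
        set k := a h
        have hk : k ^ 2 = c := by
          rw [← map_pow, hh]
          have h1 := hCi a ha c (Subgroup.mem_zpowers c)
          obtain ⟨i, hi⟩ := Subgroup.mem_zpowers_iff.1 h1
          rcases Int.even_or_odd i with ⟨r, rfl⟩ | ⟨r, rfl⟩
          · exfalso
            rw [← two_mul, zpow_mul, show c ^ (2 : ℤ) = 1 by exact_mod_cast hcp, one_zpow] at hi
            exact hc1 (a.injective (hi.symm.trans (map_one a).symm))
          · rw [← hi, zpow_add_one, zpow_mul, show c ^ (2 : ℤ) = 1 by exact_mod_cast hcp, one_zpow, one_mul]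
        have hkZ : k ∉ Z := fun h' => hc1 (by rw [← hk, hZexp k h'])
        by_contra hkU
        -- four cosets: `g` is congruent to `h * k`
        have hlt : U < U ⊔ Subgroup.zpowers k := lt_of_le_of_ne le_sup_left fun e =>
          hkU (e ▸ Subgroup.mem_sup_right (Subgroup.mem_zpowers k))
        have hQc : Nat.card (H ⧸ Z) = 4 := by
          have h1 := Subgroup.index_mul_card Z
          rw [hj, hcard, Subgroup.index_eq_card] at h1
          norm_num at h1
          omega
        let π := QuotientGroup.mk' Z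
        have hne' : ∀ u v : H, u ^ 2 ≠ v ^ 2 → π u ≠ π v := fun u v huv e => by
          obtain ⟨w, hw, hw'⟩ : ∃ w ∈ Z, u * w = v :=
            ⟨u⁻¹ * v, QuotientGroup.eq.1 e, mul_inv_cancel_left u v⟩
          exact huv (by rw [← hw', hsqz u w hw])
        have hmk : ∀ u : H, u ∉ Z → π u ≠ 1 := fun u hu e => hu ((QuotientGroup.eq_one_iff u).1 e)
        have hhk : π h ≠ π k := fun e => hkU (by
          obtain ⟨w, hw, hw'⟩ : ∃ w ∈ Z, h * w = k :=
            ⟨h⁻¹ * k, QuotientGroup.eq.1 e, mul_inv_cancel_left h k⟩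
          rw [← hw']
          exact mul_mem (Subgroup.mem_sup_right (Subgroup.mem_zpowers h)) (Subgroup.mem_sup_left hw))
        have hghk : π g = π (h * k) := by
          by_contra hne''
          have hsq' : ∀ u : H, π u * π u = 1 := fun u => by
            rw [← map_mul, ← pow_two]; exact (QuotientGroup.eq_one_iff _).2 (hpow u)
          have d1 : π (h * k) ≠ 1 := by
            rw [map_mul]
            intro e
            exact hhk (by rw [eq_inv_of_mul_eq_one_left e, ← eq_inv_of_mul_eq_one_left (hsq' k)])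
          have d2 : π (h * k) ≠ π h := by
            rw [map_mul]; intro e; exact hmk k hkZ (mul_eq_left.1 e)
          have d3 : π (h * k) ≠ π k := by
            rw [map_mul]; intro e; exact hmk h hhZ (mul_eq_right.1 e)
          let f : Fin 5 → H ⧸ Z := ![1, π g, π h, π k, π (h * k)]
          have hgh := hne' g h (by rw [hg1, hh]; exact Ne.symm hc1)
          have hgk := hne' g k (by rw [hg1, hk]; exact Ne.symm hc1)
          have hf : Function.Injective f := by
            have h1 := hmk g hg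
            have h2 := hmk h hhZ
            have h3 := hmk k hkZ
            intro i j hij
            fin_cases i <;> fin_cases j <;> simp [f] at hij <;>
              first
                | rfl
                | exact absurd hij (by first | assumption | (symm; assumption))
                | grind
          have := Nat.card_le_card_of_injective f hf
          rw [hQc, Nat.card_eq_fintype_card, Fintype.card_fin] at this
          omega
        refine hg2 ?_
        obtain ⟨w, hw, hw'⟩ : ∃ w ∈ Z, h * k * w = g :=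
          ⟨(h * k)⁻¹ * g, QuotientGroup.eq.1 hghk.symm, mul_inv_cancel_left _ g⟩
        rw [← hw', hsqz _ w hw]
        have hkh : k * h ≠ h * k := fun e => hkU (by
          exfalso
          have hle : ∀ u, u * h = h * u := fun u => by
            refine Subgroup.mem_centralizer_singleton_iff.1 (show u ∈ Subgroup.centralizer {h} from ?_)
            refine (sup_le (fun v hv => Subgroup.mem_centralizer_singleton_iff.2 (hcomab h v hv))
              (Subgroup.zpowers_le.2 (Subgroup.mem_centralizer_singleton_iff.2 e)) :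
              U ⊔ Subgroup.zpowers k ≤ _) ?_
            have : U ⊔ Subgroup.zpowers k = ⊤ := Subgroup.eq_top_of_le_card _ (by
              rw [hcard, show 4 = 3 + 1 from rfl, pow_succ']
              exact (Nat.mul_le_mul_left 2 (hsup h hhZ)).trans (PGroup.mul_card_le_of_lt hH hlt))
            exact this ▸ Subgroup.mem_top u
          exact hhZ (Subgroup.mem_center_iff.2 hle))
        have h5 := hnc k h hkh
        calc (h * k) ^ 2 = h * (⁅k, h⁆ * h * k) * k := by rw [pow_two]; group
          _ = h * (c * h * k) * k := by rw [h5]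
          _ = c * (h ^ 2 * k ^ 2) := by
            rw [← mul_assoc h, ← mul_assoc h, show h * c = c * h from hcen x y h]
            simp only [pow_two, mul_assoc]
          _ = c := by rw [hh, hk, ← pow_two, hcp, mul_one]
      refine false_of_four s C Z U hCZ le_sup_left hCi hZi hUi hCc.le (by rw [hj, hCc, pow_two]) ?_ ?_
      · have hlt : U < ⊤ := lt_top_iff_ne_top.2 fun e => hhZ (Subgroup.mem_center_iff.2 fun k =>
          hcomab h k (e ▸ Subgroup.mem_top k : k ∈ U))
        have h1 := PGroup.mul_card_le_of_lt hH hlt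
        rw [Subgroup.card_top, hcard] at h1
        rw [hj]
        refine Nat.le_of_mul_le_mul_left (h1.trans ?_) two_pos
        norm_num
      · rw [hcard, show 4 = 3 + 1 from rfl, pow_succ']
        exact Nat.mul_le_mul_left 2 (hsup h hhZ)
    obtain ⟨r, t, hrt⟩ : ∃ r t : M, r * t ≠ t * r := by
      by_contra hh
      push Not at hh
      exact hMab hh
    have hrt' : (r : H) * t ≠ t * r := fun e => hrt (Subtype.ext e)
    have hrZ : (r : H) ∉ Z := fun h' => hrt' (Subgroup.mem_center_iff.1 h' t).symm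
    have htZ : (t : H) ∉ Z := fun h' => hrt' (Subgroup.mem_center_iff.1 h' r)
    have hr2 : r ^ 2 ≠ 1 := fun e => hc1 ((hall _ hrZ).symm.trans (congrArg Subtype.val e))
    have hr4 : r ^ 4 = 1 := Subtype.ext (hexp2 r)
    have ho : orderOf r = 2 * 2 :=
      orderOf_eq_prime_pow (p := 2) (n := 1) (by rwa [pow_one]) hr4
    have ht : t * t = r ^ 2 := Subtype.ext (by
      rw [Subgroup.coe_mul, Subgroup.coe_pow, hall _ hrZ, ← pow_two, hall _ htZ])
    have hrel : t * r⁻¹ = r * t := by
      have h5 := hnc r t hrt'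
      refine Subtype.ext ?_
      rw [Subgroup.coe_mul, Subgroup.coe_mul, Subgroup.coe_inv,
        ← PGroup.commutator_mul_self_eq (r : H) t, h5, ← hall _ hrZ]
      have h6 : (r : H) ^ 4 = 1 := congrArg Subtype.val hr4
      have hcomm' : (t : H) * r ^ 2 = r ^ 2 * t := by rw [hall _ hrZ]; exact hcen x y t
      calc (t : H) * (r : H)⁻¹ = t * (r : H) ^ 2 * r * ((r : H) ^ 4)⁻¹ := by group
        _ = r ^ 2 * t * r := by rw [h6, inv_one, mul_one, hcomm']
    have hts : t ∉ Subgroup.zpowers r := fun h' => hrt (by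
      obtain ⟨k, rfl⟩ := Subgroup.mem_zpowers_iff.1 h'
      exact ((Commute.refl r).zpow_right k).eq)
    let φ := GLOrder.quaternionHom (n := 2)
      (show r ^ (2 * 2) = 1 by rw [← ho]; exact pow_orderOf_eq_one r) ht hrel
    have hφ : Function.Injective φ := GLOrder.quaternionHom_injective ho ht hrel hts
    exact prod_iso (MulEquiv.ofBijective φ ((Nat.bijective_iff_injective_and_card φ).2 ⟨hφ, by
      rw [Nat.card_eq_fintype_card, QuaternionGroup.card, hMc]; norm_num⟩))
  refine .inl ⟨h2, ?_⟩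
  have hne2 : p ≠ 2 := by rintro rfl; exact absurd h2 (by decide)
  have hexp : ∀ g : H, g ^ p = 1 := by
    let f : H →* H := MonoidHom.mk' (fun g => g ^ p) fun u v =>
      PGroup.mul_pow_prime_eq hp.out hne2 (hcen v u u) (hcen v u v) (hZexp _ (hcz v u))
    by_contra hne
    push Not at hne
    obtain ⟨g, hg⟩ := hne
    refine false_of_four s C Z f.ker hCZ (fun w hw => hZexp w hw) hCi hZi (fun a _ k hk => ?_) hCc.le
      (by rw [hj, hCc, pow_two]) ?_ ?_
    · show (a k) ^ p = 1
      rw [← map_pow, show k ^ p = 1 from hk, map_one]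
    · have h := PGroup.mul_card_le_of_lt hH (lt_top_iff_ne_top.2 fun e =>
        hg (show g ∈ f.ker from e ▸ Subgroup.mem_top g) : f.ker < ⊤)
      rw [Subgroup.card_top, hcard] at h
      rw [hj]
      refine Nat.le_of_mul_le_mul_left (h.trans ?_) hp.out.pos
      rw [← pow_succ', ← pow_succ']
    · have h1 : Nat.card f.ker * Nat.card f.range = Nat.card H := by
        rw [← Subgroup.index_ker, Subgroup.card_mul_index]
      rw [← h1, mul_comm p]
      refine Nat.mul_le_mul_left _ (hCc ▸ Subgroup.card_le_of_le ?_)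
      rintro _ ⟨k, rfl⟩
      exact hpC k
  have hE : Cfsg.IsExtraspecial p M :=
    isExtraspecial_of_card_cube hMc hMab fun g => Subtype.ext (hexp g)
  -- a copy in `Type`
  let e₀ : FinCopy (Nat.card M) ≃ M := (Finite.equivFin M).symm
  letI : Group (FinCopy (Nat.card M)) := e₀.group
  let e : FinCopy (Nat.card M) ≃* M :=
    { toEquiv := e₀, map_mul' := fun a b => e₀.apply_symm_apply (e₀ a * e₀ b) }
  have hEc : Nat.card (FinCopy (Nat.card M)) = p ^ 3 := (Nat.card_congr e₀).trans hMc
  have hEe : ∀ u : FinCopy (Nat.card M), u ^ p = 1 := fun u =>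
    e.injective (by rw [map_pow, map_one]; exact Subtype.ext (hexp _))
  have hEab : ¬∀ u v : FinCopy (Nat.card M), u * v = v * u := fun hh => hMab fun u v => by
    have := congrArg e (hh (e.symm u) (e.symm v))
    simpa using this
  exact ⟨FinCopy (Nat.card M), inferInstance, inferInstance, isExtraspecial_of_card_cube hEc hEab hEe,
    hEc, hEe, prod_iso e⟩

/-- An abelian group of order `p ^ 4`, exponent `p ^ 2`, with `p`-th powers of order at most `p`. -/
theorem abelian_rank_three [Finite H] (hcard : Nat.card H = p ^ 4)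
    (hab : ∀ x y : H, x * y = y * x) (hpw : Nat.card (Subgroup.closure {y : H | ∃ x, y = x ^ p}) ≤ p)
    (hne : ∃ x : H, x ^ p ≠ 1) :
    Nonempty (H ≃* Multiplicative (ZMod (p ^ 2) × ZMod p × ZMod p)) := by
  letI : CommGroup H := { (inferInstance : Group H) with mul_comm := hab }
  haveI : NeZero p := ⟨hp.out.ne_zero⟩
  haveI : NeZero (p ^ 2) := ⟨pow_ne_zero _ hp.out.ne_zero⟩
  have hH : IsPGroup p H := IsPGroup.of_card hcard
  have hp1 := hp.out.one_lt
  set P := Subgroup.closure {y : H | ∃ x, y = x ^ p}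
  have hPp : ∀ g : H, (g ^ p) ^ p = 1 := by
    intro g
    obtain ⟨i, -, hi⟩ := (Nat.dvd_prime_pow hp.out).1
      (hcard ▸ Subgroup.card_subgroup_dvd_card P)
    have hle : i ≤ 1 := by
      rw [hi] at hpw
      exact (Nat.pow_le_pow_iff_right hp1).1 (by rwa [pow_one])
    have h : (⟨g ^ p, Subgroup.subset_closure ⟨g, rfl⟩⟩ : P) ^ Nat.card P = 1 := pow_card_eq_one'
    have h' := congrArg Subtype.val h
    rw [hi] at h'
    rcases i with _ | i
    · simp at h'; rw [h', one_pow]
    · obtain rfl : i = 0 := by omega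
      simpa using h'
  obtain ⟨x, hx⟩ := hne
  set K := (powMonoidHom p : H →* H).ker
  have hKc : p ^ 3 ≤ Nat.card K := by
    have h1 : Nat.card K * Nat.card (powMonoidHom p : H →* H).range = p ^ 4 := by
      rw [← Subgroup.index_ker, Subgroup.card_mul_index, hcard]
    have h2 : Nat.card (powMonoidHom p : H →* H).range ≤ p :=
      le_trans (Subgroup.card_le_of_le (by rintro _ ⟨g, rfl⟩; exact Subgroup.subset_closure ⟨g, rfl⟩)) hpw
    refine Nat.le_of_mul_le_mul_right ?_ hp.out.pos
    rw [← pow_succ, ← h1]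
    exact Nat.mul_le_mul_left _ h2
  have hxo : orderOf x = p ^ 2 := orderOf_eq_prime_pow (n := 1) (by rwa [pow_one]) (by
    rw [pow_two, pow_mul]; exact hPp x)
  have hexist : ∀ L : Subgroup H, Nat.card L < p ^ 4 → x ∈ L → ∃ y ∈ K, y ∉ L := by
    intro L hL hxL
    by_contra h
    push Not at h
    have hlt : K < L := lt_of_le_of_ne h fun e => hx (e.symm ▸ hxL : x ∈ K)
    have h1 := (Nat.mul_le_mul_left p hKc).trans (PGroup.mul_card_le_of_lt hH hlt)
    rw [← pow_succ', show 3 + 1 = 4 from rfl] at h1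
    omega
  have hsupc : ∀ (L : Subgroup H) (y : H), y ^ p = 1 →
      Nat.card ↥(L ⊔ Subgroup.zpowers y) ≤ Nat.card L * p := by
    intro L y hy
    let f : L × Subgroup.zpowers y → ↥(L ⊔ Subgroup.zpowers y) := fun w =>
      ⟨(w.1 : H) * w.2, mul_mem (Subgroup.mem_sup_left w.1.2) (Subgroup.mem_sup_right w.2.2)⟩
    have hf : Function.Surjective f := fun w => by
      obtain ⟨a, ha, b, hb, e⟩ := Subgroup.mem_sup.1 w.2
      exact ⟨(⟨a, ha⟩, ⟨b, hb⟩), Subtype.ext e⟩
    refine (Nat.card_le_card_of_surjective f hf).trans ?_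
    rw [Nat.card_prod, Nat.card_zpowers]
    exact Nat.mul_le_mul_left _ (orderOf_le_of_pow_eq_one hp.out.pos hy)
  have hX : Nat.card (Subgroup.zpowers x) = p ^ 2 := by rw [Nat.card_zpowers, hxo]
  obtain ⟨y, hyK, hy⟩ := hexist (Subgroup.zpowers x)
    (by rw [hX]; exact Nat.pow_lt_pow_right hp1 (by norm_num)) (Subgroup.mem_zpowers x)
  obtain ⟨w, hwK, hw⟩ := hexist (Subgroup.zpowers x ⊔ Subgroup.zpowers y) (by
    refine lt_of_le_of_lt (hsupc _ y hyK) ?_
    rw [hX, ← pow_succ]
    exact Nat.pow_lt_pow_right hp1 (by norm_num)) (Subgroup.mem_sup_left (Subgroup.mem_zpowers x))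
  have hyp : y ^ p = 1 := hyK
  have hwp : w ^ p = 1 := hwK
  have hxp : x ^ (p ^ 2) = 1 := hxo ▸ pow_orderOf_eq_one x
  have hmod : ∀ (u : H) (q : ℕ) [NeZero q], u ^ q = 1 → ∀ i j : ZMod q,
      u ^ (i + j).val = u ^ i.val * u ^ j.val := fun u q _ hu i j => by
    rw [← pow_add, ZMod.val_add, ← pow_eq_pow_mod _ hu]
  let ψ : Multiplicative (ZMod (p ^ 2) × ZMod p × ZMod p) →* H := MonoidHom.mk'
    (fun v => x ^ v.toAdd.1.val * (y ^ v.toAdd.2.1.val * w ^ v.toAdd.2.2.val)) fun u v => by
      simp only [toAdd_mul, Prod.fst_add, Prod.snd_add, hmod x _ hxp, hmod y _ hyp, hmod w _ hwp]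
      simp only [mul_comm, mul_left_comm, mul_assoc]
  have hcop : ∀ (u : H) (L : Subgroup H), u ^ p = 1 → u ∉ L → ∀ i : ZMod p, u ^ i.val ∈ L → i = 0 := by
    intro u L hu huL i hi
    by_contra hne'
    refine huL ?_
    have hne'' : i.val ≠ 0 := fun e => hne' ((ZMod.val_eq_zero i).1 e)
    have hco : Nat.Coprime i.val p := Nat.Coprime.symm <|
      (hp.out.coprime_iff_not_dvd).2 fun hd =>
        absurd (Nat.le_of_dvd (Nat.pos_of_ne_zero hne'') hd) (not_le.2 (ZMod.val_lt _))
    obtain ⟨k, hk⟩ := exists_pow_eq_self_of_coprime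
      (Nat.Coprime.coprime_dvd_right (orderOf_dvd_of_pow_eq_one hu) hco)
    exact hk ▸ pow_mem hi k
  have hψ : Function.Injective ψ := by
    refine (injective_iff_map_eq_one ψ).2 fun v hv => ?_
    have h1 : x ^ v.toAdd.1.val * (y ^ v.toAdd.2.1.val * w ^ v.toAdd.2.2.val) = 1 := hv
    have h2 : v.toAdd.2.2 = 0 := hcop w _ hwp hw _ (by
      have : w ^ v.toAdd.2.2.val = (x ^ v.toAdd.1.val * y ^ v.toAdd.2.1.val)⁻¹ :=
        eq_inv_of_mul_eq_one_right (by rwa [mul_assoc])
      rw [this]
      exact inv_mem (mul_mem (Subgroup.mem_sup_left (pow_mem (Subgroup.mem_zpowers x) _))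
        (Subgroup.mem_sup_right (pow_mem (Subgroup.mem_zpowers y) _))))
    rw [h2, ZMod.val_zero, pow_zero, mul_one] at h1
    have h3 : v.toAdd.2.1 = 0 := hcop y _ hyp hy _ (by
      rw [eq_inv_of_mul_eq_one_right h1]
      exact inv_mem (pow_mem (Subgroup.mem_zpowers x) _))
    rw [h3, ZMod.val_zero, pow_zero, mul_one, ← orderOf_dvd_iff_pow_eq_one, hxo] at h1
    have h4 : v.toAdd.1 = 0 := (ZMod.val_eq_zero _).1 (Nat.eq_zero_of_dvd_of_lt h1 (ZMod.val_lt _))
    exact Multiplicative.toAdd.injective (Prod.ext h4 (Prod.ext h3 h2))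
  refine ⟨(MulEquiv.ofBijective ψ ((Nat.bijective_iff_injective_and_card ψ).2 ⟨hψ, ?_⟩)).symm⟩
  rw [Nat.card_congr (Multiplicative.toAdd :
    Multiplicative (ZMod (p ^ 2) × ZMod p × ZMod p) ≃ _), Nat.card_prod, Nat.card_prod,
    Nat.card_zmod, Nat.card_zmod, hcard]
  ring

end Cfsg.Agent.EssentialSmall
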